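import Mathlib
import Cfsg.Prelude.Def_CaseTheorems
import Cfsg.Agent.LieExceptional.BNPairCore
import Cfsg.Agent.Nodes.LeviDec
import Cfsg.Agent.LieRecognition.CoxForm
import Cfsg.Agent.H519.LieRank
import Cfsg.Prelude.Def_Classification2
import Cfsg.Agent.S0041
import Cfsg.Agent.FastGrp
import Cfsg.Agent.Prune
set_option linter.all false

section
prune_inst 0x7f00000000000000000000000000000000000000000000000000000000000000000000000000000000000000000000000000000000000000000000000000000000000000000000000000000000000000003fffffffffffffffffffffffffffbeffbdffffffff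

-- part: H938/Bad
section
set_option linter.all false
open scoped Cfsg.Agent.FastGrp

/-!
# Chains of insoluble subgroups

`Bad G` : there are subgroups `L < K < G` with `L` insoluble.
* `not_bad` : a group all of whose insoluble proper subgroups `K` have `K / Φ(K)` minimal simple is not `Bad`;
* `bad_of_normalizes` : a simple group with an insoluble subgroup normalising a soluble subgroup it does not contain;
* `bad_of_commute` : a simple group with an insoluble subgroup whose centralizer is not abelian;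
* `Bad.of_equiv`, `Bad.of_injective`.
-/

set_option autoImplicit false

namespace Cfsg.Agent.H938

open Subgroup

/-- There are subgroups `L < K < G` with `L` insoluble. -/
def Bad (G : Type*) [Group G] : Prop :=
  ∃ L K : Subgroup G, L < K ∧ K ≠ ⊤ ∧ ¬ Group.IsSolvable L

variable {G : Type*} [Group G]

theorem isSolvable_of_le {H K : Subgroup G} (h : H ≤ K) (hK : Group.IsSolvable K) : Group.IsSolvable H :=
  Group.isSolvable_of_isSolvable_injective (Subgroup.inclusion_injective h)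

theorem isSolvable_top_iff : Group.IsSolvable (⊤ : Subgroup G) ↔ Group.IsSolvable G :=
  ⟨fun h => Group.isSolvable_of_surjective (f := (⊤ : Subgroup G).subtype)
    (fun x => ⟨⟨x, Subgroup.mem_top x⟩, rfl⟩), fun h => inferInstance⟩

theorem isSolvable_map {H : Type*} [Group H] (f : G →* H) {K : Subgroup G} (hK : Group.IsSolvable K) :
    Group.IsSolvable (K.map f) :=
  Group.isSolvable_of_surjective (f := f.subgroupMap K) (f.subgroupMap_surjective K)

/-- If the kernel of `f` on `K` is soluble and the image is soluble, so is `K`. -/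
theorem isSolvable_of_map {H : Type*} [Group H] (f : G →* H) {K : Subgroup G} (hk : Group.IsSolvable f.ker)
    (hK : Group.IsSolvable (K.map f)) : Group.IsSolvable K := by
  have h1 : Group.IsSolvable (f.ker.subgroupOf K) :=
    Group.isSolvable_of_isSolvable_injective (f := (K.subtype.comp (f.ker.subgroupOf K).subtype).codRestrict f.ker
      (fun x => x.2)) (by
        intro x y hxy
        have := congrArg Subtype.val hxy
        exact Subtype.ext (Subtype.ext this))
  refine Group.isSolvable_of_ker_le_range (f.ker.subgroupOf K).subtype (f.subgroupMap K) ?_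
  intro x hx
  rw [Subgroup.range_subtype, Subgroup.mem_subgroupOf, MonoidHom.mem_ker]
  exact congrArg Subtype.val (MonoidHom.mem_ker.1 hx)

/-- A group whose insoluble proper subgroups are minimal simple modulo the Frattini subgroup is not `Bad`. -/
theorem not_bad [Finite G]
    (hmin : ∀ K : Subgroup G, K ≠ ⊤ → ¬ Group.IsSolvable K → Cfsg.IsMinimalSimple (K ⧸ frattini K)) :
    ¬ Bad G := by
  rintro ⟨L, K, hLK, hK, hL⟩
  have hKs : ¬ Group.IsSolvable K := fun h => hL (isSolvable_of_le hLK.le h)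
  obtain ⟨-, -, h3⟩ := hmin K hK hKs
  set L' : Subgroup K := L.subgroupOf K with hL'
  have hne : L' ≠ ⊤ := by
    intro h
    rw [hL', Subgroup.subgroupOf_eq_top] at h
    exact hLK.not_ge h
  have h4 : L'.map (QuotientGroup.mk' (frattini K)) ≠ ⊤ := by
    intro h
    apply hne
    apply frattini_nongenerating
    have h5 : (L'.map (QuotientGroup.mk' (frattini K))).comap (QuotientGroup.mk' (frattini K)) = ⊤ := by
      rw [h, Subgroup.comap_top]
    rwa [Subgroup.comap_map_eq, QuotientGroup.ker_mk'] at h5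
  have h5 : Group.IsSolvable L' := by
    refine isSolvable_of_map (QuotientGroup.mk' (frattini K)) ?_ (h3 _ h4)
    rw [QuotientGroup.ker_mk']
    have : Group.IsNilpotent (frattini K) := frattini_nilpotent
    infer_instance
  apply hL
  have h6 : Group.IsSolvable (L'.map K.subtype) := isSolvable_map _ h5
  rwa [hL', Subgroup.map_subgroupOf_eq_of_le hLK.le] at h6

/-- An insoluble subgroup that normalises a soluble subgroup `N ≠ 1` it does not contain. -/
theorem bad_of_normalizes [IsSimpleGroup G] {L N : Subgroup G} (hL : ¬ Group.IsSolvable L)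
    (hN : Group.IsSolvable N) (hn : L ≤ normalizer (N : Set G)) (hNL : ¬ N ≤ L) : Bad G := by
  have hne : N ≠ ⊥ := by
    rintro rfl
    exact hNL bot_le
  refine ⟨L, L ⊔ N, ?_, ?_, hL⟩
  · refine lt_of_le_of_ne le_sup_left fun h => hNL ?_
    rw [h]
    exact le_sup_right
  · intro htop
    have h1 : N.Normal := by
      rw [← normalizer_eq_top_iff, eq_top_iff, ← htop]
      exact sup_le hn le_normalizer
    rcases h1.eq_bot_or_eq_top with h2 | h2
    · exact hne h2
    · rw [h2, isSolvable_top_iff] at hN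
      exact hL inferInstance

/-- An insoluble subgroup commuting with an element it does not contain. -/
theorem bad_of_commute_one [IsSimpleGroup G] {L : Subgroup G} (hL : ¬ Group.IsSolvable L) {x : G}
    (hx : ∀ l ∈ L, x * l = l * x) (hxL : x ∉ L) : Bad G := by
  refine bad_of_normalizes (N := zpowers x) hL ?_ ?_ ?_
  · exact Group.isSolvable_of_comm fun a b => by
      obtain ⟨_, i, rfl⟩ := a
      obtain ⟨_, j, rfl⟩ := b
      exact Subtype.ext ((Commute.refl x).zpow_zpow i j).eq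
  · intro l hl
    have h1 : l ∈ centralizer ((zpowers x : Subgroup G) : Set G) := by
      rw [mem_centralizer_iff]
      rintro _ ⟨k, rfl⟩
      exact (Commute.zpow_left (hx l hl) k).eq
    exact centralizer_le_normalizer _ h1
  · intro h
    exact hxL (h (mem_zpowers x))

theorem Bad.of_equiv {H : Type*} [Group H] (e : G ≃* H) (h : Bad G) : Bad H := by
  obtain ⟨L, K, h1, h2, h3⟩ := h
  refine ⟨L.map e.toMonoidHom, K.map e.toMonoidHom, ?_, ?_, ?_⟩
  · exact (Subgroup.map_lt_map_iff_of_injective e.injective).2 h1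
  · intro h
    apply h2
    apply Subgroup.map_injective (f := e.toMonoidHom) e.injective
    rw [h, Subgroup.map_top_of_surjective _ e.surjective]
  · intro h
    exact h3 (Group.isSolvable_of_isSolvable_injective
      (f := (L.equivMapOfInjective e.toMonoidHom e.injective).toMonoidHom)
      (L.equivMapOfInjective e.toMonoidHom e.injective).injective)

/-- A proper subgroup containing an image of an insoluble proper subgroup. -/
theorem bad_of_hom {H : Type*} [Group H] (f : H →* G) (hf : Function.Injective f) (hne : f.range ≠ ⊤)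
    {L : Subgroup H} (hL : ¬ Group.IsSolvable L) (hLt : L ≠ ⊤) : Bad G := by
  refine ⟨L.map f, f.range, ?_, hne, ?_⟩
  · rw [MonoidHom.range_eq_map]
    exact (Subgroup.map_lt_map_iff_of_injective hf).2 (lt_top_iff_ne_top.2 hLt)
  · intro h
    exact hL (Group.isSolvable_of_isSolvable_injective (f := (L.equivMapOfInjective f hf).toMonoidHom)
      (L.equivMapOfInjective f hf).injective)

/-- A proper insoluble subgroup that is not its own normaliser. -/
theorem bad_of_mem_normalizer [IsSimpleGroup G] {L : Subgroup G} (hL : ¬ Group.IsSolvable L) (hLt : L ≠ ⊤) {x : G}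
    (hx : x ∈ normalizer (L : Set G)) (hxL : x ∉ L) : Bad G := by
  refine ⟨L, normalizer (L : Set G), lt_of_le_of_ne le_normalizer fun h => hxL (h ▸ hx), ?_, hL⟩
  intro h
  rw [normalizer_eq_top_iff] at h
  rcases h.eq_bot_or_eq_top with h1 | h1
  · apply hL
    rw [h1]
    infer_instance
  · exact hLt h1

end Cfsg.Agent.H938
end

-- part: H938/Rgd
section
set_option linter.all false
open scoped Cfsg.Agent.FastGrp

-- part: H938/ParInsol
section
/-!
# Parabolic subgroups of rank two are insoluble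

`not_isSolvable_of_noncomm` : in a group with a (B,N)-pair, a subgroup containing `B` and exactly two distinguished
generators `s`, `t` that do not commute modulo `B` is not soluble.
-/

set_option autoImplicit false

namespace Cfsg.Agent.H938

open Cfsg Subgroup Cfsg.Agent.LieExceptional.BNPairCore

variable {G : Type*} [Group G]

/-- A product `B M` of subgroups with `B` normalising `M`. -/
theorem mem_sup_of_conj {B M : Subgroup G} (h : ∀ b ∈ B, ∀ m ∈ M, b * m * b⁻¹ ∈ M) {x : G} (hx : x ∈ B ⊔ M) :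
    ∃ b ∈ B, ∃ m ∈ M, x = b * m := by
  have h1 : B ⊔ M ≤
      { carrier := {x | ∃ b ∈ B, ∃ m ∈ M, x = b * m}
        one_mem' := ⟨1, one_mem _, 1, one_mem _, by group⟩
        mul_mem' := by
          rintro _ _ ⟨b, hb, m, hm, rfl⟩ ⟨b', hb', m', hm', rfl⟩
          refine ⟨b * b', mul_mem hb hb', (b'⁻¹ * m * b'⁻¹⁻¹) * m', mul_mem (h _ (inv_mem hb') _ hm) hm', by group⟩
        inv_mem' := by
          rintro _ ⟨b, hb, m, hm, rfl⟩
          refine ⟨b⁻¹, inv_mem hb, b * m⁻¹ * b⁻¹, h _ hb _ (inv_mem hm), by group⟩ } := by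
    refine sup_le ?_ ?_
    · intro b hb
      exact ⟨b, hb, 1, one_mem _, by group⟩
    · intro m hm
      exact ⟨1, one_mem _, m, hm, by group⟩
  exact h1 hx

/-- A soluble group `Q ≥ B`, `Q ≠ B`: a normal subgroup `M` of `Q`, not contained in `B`, with `[M, M] ≤ B`. -/
theorem exists_normal_of_solvable {Q B : Subgroup G} (hQ : Group.IsSolvable Q) (hQB : ¬ Q ≤ B) :
    ∃ M : Subgroup G, M ≤ Q ∧ ¬ M ≤ B ∧ (∀ q ∈ Q, ∀ m ∈ M, q * m * q⁻¹ ∈ M) ∧
      ∀ m ∈ M, ∀ m' ∈ M, m * m' * m⁻¹ * m'⁻¹ ∈ B := by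
  classical
  obtain ⟨n, hn⟩ := (Group.isSolvable_def Q).1 hQ
  have hex : ∃ k, (derivedSeries Q k).map Q.subtype ≤ B := ⟨n, by rw [hn, Subgroup.map_bot]; exact bot_le⟩
  have h0 : Nat.find hex ≠ 0 := by
    intro h
    have := Nat.find_spec hex
    rw [h, derivedSeries_zero Q, ← MonoidHom.range_eq_map, Subgroup.range_subtype] at this
    exact hQB this
  obtain ⟨k, hk⟩ := Nat.exists_eq_succ_of_ne_zero h0
  have hk1 := Nat.find_spec hex
  rw [hk] at hk1
  have hk2 : ¬ (derivedSeries Q k).map Q.subtype ≤ B := Nat.find_min hex (by omega)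
  refine ⟨(derivedSeries Q k).map Q.subtype, ?_, hk2, ?_, ?_⟩
  · exact Subgroup.map_subtype_le _
  · rintro q hq _ ⟨m, hm, rfl⟩
    exact ⟨⟨q, hq⟩ * m * ⟨q, hq⟩⁻¹, (derivedSeries_normal (G := Q) k).conj_mem m hm ⟨q, hq⟩, rfl⟩
  · rintro _ ⟨m, hm, rfl⟩ _ ⟨m', hm', rfl⟩
    refine hk1 ⟨m * m' * m⁻¹ * m'⁻¹, ?_, rfl⟩
    rw [derivedSeries_succ]
    exact Subgroup.commutator_mem_commutator hm hm'

variable {P : BNPair G}

/-- **A subgroup containing `B` and exactly two distinguished generators, not commuting modulo `B`, is insoluble.** -/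
theorem not_isSolvable_of_noncomm {Q : Subgroup G} (hBQ : P.B ≤ Q) {s t : G} (hs : s ∈ P.S) (ht : t ∈ P.S)
    (hsQ : s ∈ Q) (htQ : t ∈ Q) (hQS : ∀ r ∈ P.S, r ∈ Q → r = s ∨ r = t) (hst : s * t * s⁻¹ * t⁻¹ ∉ P.B) :
    ¬ Group.IsSolvable Q := by
  intro hsol
  obtain ⟨M, hMQ, hMB, hM1, hM2⟩ := exists_normal_of_solvable hsol (B := P.B) fun h => not_mem_B hs (h hsQ)
  have hsN := mem_N hs
  have htN := mem_N ht
  have hne : s ≠ t := by
    rintro rfl
    apply hst
    rw [mul_inv_cancel_right, mul_inv_cancel]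
    exact one_mem _
  -- not commuting, on the left
  have hrel : (s * t)⁻¹ * (t * s) ∉ P.B := by
    intro h
    apply hst
    have h1 : (s * t) * ((s * t)⁻¹ * (t * s))⁻¹ * (s * t)⁻¹ ∈ P.B := by
      refine conj_mem' (mul_mem hsN htN) (inv_mem h) (inv_mem ?_)
      exact mul_mem (inv_mem (mul_mem hsN htN)) (mul_mem htN hsN)
    have h2 : (s * t) * ((s * t)⁻¹ * (t * s))⁻¹ * (s * t)⁻¹ = s * t * s⁻¹ * t⁻¹ := by group
    rwa [h2] at h1
  have hBM : P.B ≤ P.B ⊔ M := le_sup_left
  have hfac : ∀ {x : G}, x ∈ P.B ⊔ M → ∃ b ∈ P.B, b * x ∈ M := by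
    intro x hx
    obtain ⟨b, hb, m, hm, rfl⟩ := mem_sup_of_conj (fun b hb m hm => hM1 b (hBQ hb) m hm) hx
    exact ⟨b⁻¹, inv_mem hb, by rwa [inv_mul_cancel_left]⟩
  have hone : s ∈ P.B ⊔ M ∨ t ∈ P.B ⊔ M := by
    by_contra hcon
    push Not at hcon
    apply hMB
    have h1 := eq_parabolic hBM
    have h2 : P.S ∩ (P.B ⊔ M : Subgroup G) = ∅ := by
      rw [Set.eq_empty_iff_forall_notMem]
      rintro r ⟨hr, hrM⟩
      rcases hQS r hr ((sup_le hBQ hMQ) hrM) with rfl | rfl
      · exact hcon.1 hrM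
      · exact hcon.2 hrM
    rw [h2] at h1
    have h3 : P.parabolic ∅ = P.B := by
      unfold BNPair.parabolic
      rw [Subgroup.closure_empty, sup_bot_eq]
    rw [h3] at h1
    exact le_sup_right.trans h1.le
  -- both
  have hboth : ¬ (s ∈ P.B ⊔ M ∧ t ∈ P.B ⊔ M) := by
    rintro ⟨h1, h2⟩
    obtain ⟨b, hb, hm⟩ := hfac h1
    obtain ⟨b', hb', hm'⟩ := hfac h2
    have h3 := hM2 _ hm _ hm'
    have e : C P ((b * s) * (b' * t)) = C P ((b' * t) * (b * s)) := by
      have h4 : (b * s) * (b' * t) = ((b * s) * (b' * t) * (b * s)⁻¹ * (b' * t)⁻¹) * ((b' * t) * (b * s)) := by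
        group
      rw [h4]
      exact C_mul_left h3
    have h5 : C P ((b * s) * (b' * t)) = C P (s * t) ∨ C P ((b * s) * (b' * t)) = C P t := by
      have h6 : (b * s) * (b' * t) = b * (s * b' * t) := by group
      rw [h6, C_mul_left hb]
      rcases axiom_left (P := P) hs htN hb' with h | h
      · exact Or.inl (C_eq_of_mem h)
      · exact Or.inr (C_eq_of_mem h)
    have h7 : C P ((b' * t) * (b * s)) = C P (t * s) ∨ C P ((b' * t) * (b * s)) = C P s := by
      have h6 : (b' * t) * (b * s) = b' * (t * b * s) := by group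
      rw [h6, C_mul_left hb']
      rcases axiom_left (P := P) ht hsN hb with h | h
      · exact Or.inl (C_eq_of_mem h)
      · exact Or.inr (C_eq_of_mem h)
    rcases h5 with h5 | h5 <;> rcases h7 with h7 | h7
    · exact hrel (rel_of_C_eq (mul_mem hsN htN) (mul_mem htN hsN) (h5.symm.trans (e.trans h7)))
    · have h8 := rel_of_C_eq (mul_mem hsN htN) hsN (h5.symm.trans (e.trans h7))
      have h9 : (s * t)⁻¹ * s = t⁻¹ := by group
      rw [h9] at h8
      exact not_mem_B ht (by simpa using inv_mem h8)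
    · have h8 := rel_of_C_eq htN (mul_mem htN hsN) (h5.symm.trans (e.trans h7))
      have h9 : t⁻¹ * (t * s) = s := by group
      rw [h9] at h8
      exact not_mem_B hs h8
    · have h8 := rel_of_C_eq htN hsN (h5.symm.trans (e.trans h7))
      exact hne (P.inj t ht s hs h8).symm
  -- exactly one
  have hcl : ∀ {a c : G}, a ∈ P.S → c ∈ P.S → a ∈ P.B ⊔ M → c ∉ P.B ⊔ M → c ∈ Q → a ≠ c →
      (c * a)⁻¹ * (a * c) ∈ P.B := by
    intro a c ha hc haM hcM hcQ hac
    have haN := mem_N ha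
    have hcN := mem_N hc
    obtain ⟨b, hb, hm⟩ := hfac haM
    have h1 : c * (b * a) * c⁻¹ ∈ P.B ⊔ M := Subgroup.mem_sup_right (hM1 c hcQ _ hm)
    have h2 : c * b * a ∈ C P (c * a) := by
      rcases axiom_left (P := P) hc haN hb with h | h
      · exact h
      · exfalso
        have h3 : c * b * a ∈ P.B ⊔ M := mem_of_mem_C' hBM h haM
        apply hcM
        have h4 : c = (c * b * a) * a⁻¹ * b⁻¹ := by group
        rw [h4]
        exact mul_mem (mul_mem h3 (inv_mem haM)) (inv_mem (hBM hb))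
    obtain ⟨x, hx, y, hy, h3⟩ := mem_C.1 h2
    have h4 : c * a * (y * (c * c)⁻¹) * c ∈ P.B ⊔ M := by
      have h5 : c * a * (y * (c * c)⁻¹) * c = x⁻¹ * (c * (b * a) * c⁻¹) := by
        have : c * (b * a) * c⁻¹ = (c * b * a) * c⁻¹ := by group
        rw [this, h3]; group
      rw [h5]
      exact mul_mem (inv_mem (hBM hx)) h1
    have h5 : c * a * c ∈ P.B ⊔ M := by
      rcases axiom_right (P := P) (n := c * a) hc (mul_mem hcN haN) (mul_mem hy (inv_sq_mem hc)) with h | h
      · exact mem_of_mem_C hBM h h4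
      · exfalso
        have h6 : c * a ∈ P.B ⊔ M := mem_of_mem_C hBM h h4
        apply hcM
        have := mul_mem h6 (inv_mem haM)
        rwa [mul_inv_cancel_right] at this
    -- the word `c a c` is not reduced
    have h6 : len P ([c, a, c] : List G).prod < 3 := by
      have hS : ∀ x ∈ ([c, a, c] : List G), x ∈ P.S := by
        intro x hx
        simp only [List.mem_cons, List.not_mem_nil, or_false] at hx
        rcases hx with rfl | rfl | rfl
        · exact hc
        · exact ha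
        · exact hc
      have h7 := len_prod_le (P := P) hS
      refine lt_of_le_of_ne h7 fun h8 => hcM ?_
      refine mem_of_reduced hBM _ hS h8.symm ?_ c (by simp)
      have : ([c, a, c] : List G).prod = c * a * c := by simp [mul_assoc]
      rw [this]
      exact h5
    have h7 : ([c, a, c] : List G).prod = c * ([a, c] : List G).prod := by simp
    rw [h7] at h6
    have hS2 : ∀ x ∈ ([a, c] : List G), x ∈ P.S := by
      intro x hx
      simp only [List.mem_cons, List.not_mem_nil, or_false] at hx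
      rcases hx with rfl | rfl
      · exact ha
      · exact hc
    have h8 : len P ([a, c] : List G).prod = 2 := by
      have h9 := len_prod_le (P := P) hS2
      have h10 : ([a, c] : List G).prod = a * c := by simp
      have h11 := len_mul_left_cases (P := P) ha hcN
      rw [h10] at h9 ⊢
      rw [len_gen hc] at h11
      rcases h11 with h11 | h11
      · omega
      · exfalso
        have h12 : len P (a * c) = 0 := by omega
        rw [len_eq_zero_iff (mul_mem haN hcN)] at h12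
        apply hac
        refine P.inj a ha c hc ?_
        have h13 : a⁻¹ * c = (a * a)⁻¹ * (a * c) := by group
        rw [h13]
        exact mul_mem (inv_sq_mem ha) h12
    have h9 := len_mul_left_ne (P := P) hc (prod_mem_N (P := P) hS2)
    obtain ⟨l₁, a', l₂, h10, h11⟩ := exchange (P := P) hc [a, c] hS2 (by omega)
    rcases l₁ with _ | ⟨z, l₁⟩
    · -- `c ~ a`
      simp only [List.nil_append, List.cons.injEq] at h10
      obtain ⟨rfl, -⟩ := h10
      simp only [List.prod_nil, mul_one, one_mul] at h11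
      exact absurd (P.inj c hc a ha h11).symm hac
    · rcases l₁ with _ | ⟨z', l₁⟩
      · simp only [List.cons_append, List.nil_append, List.cons.injEq] at h10
        obtain ⟨rfl, rfl, -⟩ := h10
        simpa using h11
      · exfalso
        have := congrArg List.length h10
        simp at this
  rcases hone with h1 | h1
  · have h2 : t ∉ P.B ⊔ M := fun h => hboth ⟨h1, h⟩
    exact hrel (rel_symm (hcl hs ht h1 h2 htQ hne))
  · have h2 : s ∉ P.B ⊔ M := fun h => hboth ⟨h, h1⟩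
    exact hrel (hcl ht hs h1 h2 hsQ hne.symm)

end Cfsg.Agent.H938
end

-- part: H938/Rgd
section
/-!
# Groups with a root group datum of rank at least three

`bad_of_rgdt` : a finite simple group with a root group datum of type `M`, with two non-commuting nodes `i`, `j` and a
further node `k`, has a chain of insoluble proper subgroups (`Bad`).
-/

set_option autoImplicit false
set_option linter.unusedSectionVars false

namespace Cfsg.Agent.H938

open CoxeterSystem Cfsg.Agent.ChevalleyStructure.CoxeterGeom Cfsg.Agent.Tits.Roots Cfsg.Agent.Tits.Core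
  Cfsg.Agent.Tits.Exchange Cfsg.Agent.Nodes.Reps Cfsg.Agent.Nodes.BNOf Cfsg.Agent.Nodes.StabComb
  Cfsg.Agent.Nodes.Bruhat Cfsg.Agent.Nodes.OppDec Cfsg.Agent.Nodes.LeviDec Cfsg.Agent.Omega.ML.Ex.Typ
  Cfsg.Agent.FixBN

section

variable {I W Y : Type*} [Fintype I] [DecidableEq I] [Group W] [Group Y] {M : CoxeterMatrix I}
  {cs : CoxeterSystem M W} {A : I → I → ℤ} {h : IsCartan M A} {p : ℕ} {T : Subgroup Y} {n : I → Y}
  {X : (I → ℤ) → Subgroup Y}

/-- the simple reflections of `J` represented in `P_J` -/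
theorem mem_of_n_mem_PJ [Finite W] (R : RGD cs h p T n X) {J : Set I} {k : I} (hk : n k ∈ PJ cs h T X J) :
    k ∈ J := by
  have h1 : Cell R.nsys cs h X (cs.simple k) (n k) :=
    ⟨1, one_mem _, n k, rp_simple cs R.nsys k, 1, one_mem _, by group⟩
  rw [cell_mem_PJ_iff R h1] at hk
  by_contra hkJ
  have h3 : rep cs h (cs.simple k) (sr k) = -sr k := rep_simple_sr cs h k
  have h4 : sr k ∈ NotJ cs h J := ⟨isRoot_sr cs h k, sr_nonneg k, k, hkJ, by rw [sr_self]; exact one_pos⟩
  have h5 := NotJ.act hk h4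
  rw [h3] at h5
  have h6 := h5.2.1 k
  rw [Pi.neg_apply, sr_self] at h6
  exact absurd h6 (by simp)

/-- representatives of non-commuting reflections do not commute modulo `B` -/
theorem noncomm_n [Finite W] (R : RGD cs h p T n X) {i j : I} (hij : i ≠ j) (hM : M i j ≠ 2) :
    n i * n j * (n i)⁻¹ * (n j)⁻¹ ∉ RGD.B cs h T X := by
  intro h1
  have h2 : Rp cs R.nsys (cs.simple i * cs.simple j * (cs.simple i)⁻¹ * (cs.simple j)⁻¹)
      (n i * n j * (n i)⁻¹ * (n j)⁻¹) :=
    (((rp_simple cs R.nsys i).mul (rp_simple cs R.nsys j)).mul (rp_simple cs R.nsys i).inv).mul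
      (rp_simple cs R.nsys j).inv
  have h3 := R.eq_one_of_mem_B h2 h1
  rw [cs.inv_simple, cs.inv_simple] at h3
  have h4 : (cs.simple i * cs.simple j) ^ 2 = 1 := by rw [pow_two, ← mul_assoc]; exact h3
  have h5 := orderOf_dvd_of_pow_eq_one h4
  rw [Cfsg.Agent.LieRecognition.CoxForm.orderOf_eq] at h5
  have h6 : M i j ≠ 1 := by
    intro h6
    exact M.off_diagonal i j hij h6
  have h7 : M i j ≤ 2 := Nat.le_of_dvd (by norm_num) h5
  have h8 : M i j ≠ 0 := by
    intro h8
    rw [h8] at h5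
    exact absurd h5 (by norm_num)
  omega

/-- the parabolic subgroup is soluble if the Levi subgroup is -/
theorem isSolvable_PJ (R : RGD cs h p T n X) {J : Set I} (hV : Group.IsSolvable (VJ cs h X J))
    (hs : Group.IsSolvable (LJ cs h T X J)) : Group.IsSolvable (PJ cs h T X J) := by
  set P := PJ cs h T X J with hPdef
  set V := VJ cs h X J with hVdef
  have hVP : V ≤ P := VJ_le_PJ
  have hLP : LJ cs h T X J ≤ P := LJ_le_PJ
  have hn : (V.subgroupOf P).Normal := by
    rw [Subgroup.normal_subgroupOf_iff_le_normalizer hVP]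
    exact PJ_le_normalizer_VJ R _
  refine (Group.isSolvable_iff_subgroup_quotient (V.subgroupOf P)).2 ⟨?_, ?_⟩
  · exact Group.isSolvable_of_isSolvable_injective (f := (Subgroup.subgroupOfEquivOfLe hVP).toMonoidHom)
      (Subgroup.subgroupOfEquivOfLe hVP).injective
  · refine Group.isSolvable_of_surjective
      (f := (QuotientGroup.mk' (V.subgroupOf P)).comp (Subgroup.inclusion hLP)) ?_
    intro x
    obtain ⟨⟨g, hg⟩, rfl⟩ := QuotientGroup.mk'_surjective _ x
    obtain ⟨l, hl, v, hv, rfl⟩ := (mem_PJ R).1 hg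
    refine ⟨⟨l, hl⟩, ?_⟩
    rw [MonoidHom.comp_apply]
    refine (QuotientGroup.eq (s := V.subgroupOf P)).2 ?_
    rw [Subgroup.mem_subgroupOf]
    have : (((Subgroup.inclusion hLP ⟨l, hl⟩)⁻¹ * ⟨l * v, hg⟩ : P) : Y) = v := by
      change l⁻¹ * (l * v) = v
      group
    rw [this]
    exact hv

/-- the rank two Levi subgroup of two non-commuting nodes is insoluble -/
theorem not_isSolvable_LJ [Finite W] [Finite Y] (hp : p.Prime) (R : RGD cs h p T n X)
    (hgen : RGD.B cs h T X ⊔ NN cs R.nsys = ⊤)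
    {i j : I} (hij : i ≠ j) (hM : M i j ≠ 2) : ¬ Group.IsSolvable (LJ cs h T X {i, j}) := by
  intro hs
  have : Fact p.Prime := ⟨hp⟩
  have hV : Group.IsSolvable (VJ cs h X {i, j}) := by
    have h1 : IsPGroup p (VJ cs h X {i, j}) := R.isPGroup_Upos.to_le (VJ_le_U _)
    have : Group.IsNilpotent (VJ cs h X {i, j}) := h1.isNilpotent
    infer_instance
  have hP : Group.IsSolvable (PJ cs h T X {i, j}) := isSolvable_PJ R hV hs
  refine not_isSolvable_of_noncomm (P := R.bnPair hgen) (Q := PJ cs h T X {i, j}) (s := n i) (t := n j)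
    (B_le_PJ) ⟨i, rfl⟩ ⟨j, rfl⟩ ?_ ?_ ?_ (noncomm_n R hij hM) hP
  · exact LJ_le_PJ (n_mem_LJ R (by simp))
  · exact LJ_le_PJ (n_mem_LJ R (by simp))
  · rintro _ ⟨k, rfl⟩ hk
    rcases mem_of_n_mem_PJ R hk with h1 | h1
    · exact Or.inl (by rw [h1])
    · exact Or.inr (by rw [h1])

end

/-- **Root group data with two non-commuting nodes and a third node.** -/
theorem bad_of_rgdt {p l : ℕ} {M : CoxeterMatrix (Fin l)} {G : Type*} [Group G] [Finite G] [IsSimpleGroup G]
    (hp : p.Prime) (hG : HasRGDT p M G) {i j k : Fin l} (hij : i ≠ j) (hki : k ≠ i) (hkj : k ≠ j)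
    (hM : M i j ≠ 2) : Bad G := by
  obtain ⟨A, h, T, n, X, hW, R, hX⟩ := hG
  have hgen : RGD.B M.toCoxeterSystem h T X ⊔ NN M.toCoxeterSystem R.nsys = ⊤ := by
    rw [eq_top_iff, ← hX]
    exact Nodes.RGDLib.rgd_G1_le R
  have : Fact p.Prime := ⟨hp⟩
  have hV : Group.IsSolvable (VJ M.toCoxeterSystem h X {i, j}) := by
    have h1 : IsPGroup p (VJ M.toCoxeterSystem h X {i, j}) := R.isPGroup_Upos.to_le (VJ_le_U _)
    have : Group.IsNilpotent (VJ M.toCoxeterSystem h X {i, j}) := h1.isNilpotent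
    infer_instance
  refine bad_of_normalizes (not_isSolvable_LJ hp R hgen hij hM) hV (LJ_le_normalizer_VJ R _) ?_
  intro hle
  have h1 : VJ M.toCoxeterSystem h X {i, j} ≤ ⊥ := by
    rw [← LJ_inf_VJ R {i, j}]
    exact le_inf hle le_rfl
  have h2 : X (sr k) ≤ VJ M.toCoxeterSystem h X {i, j} := by
    refine RGD.le_Sup ⟨isRoot_sr M.toCoxeterSystem h k, sr_nonneg k, k, ?_, by rw [sr_self]; exact one_pos⟩
    rintro (h3 | h3)
    · exact hki h3
    · exact hkj h3
  exact X_ne_bot R (isRoot_sr M.toCoxeterSystem h k) (le_bot_iff.1 (h2.trans h1))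

end Cfsg.Agent.H938
end
end

-- part: H938/Rank
section
set_option linter.all false
open scoped Cfsg.Agent.FastGrp


/-!
# Groups of Lie type of rank at least three are `Bad`
-/

set_option autoImplicit false
set_option linter.unusedSectionVars false

namespace Cfsg.Agent.H938

open Cfsg
open CoxeterSystem Cfsg.Agent.ChevalleyStructure.CoxeterGeom Cfsg.Agent.Tits.Roots Cfsg.Agent.Tits.Core
  Cfsg.Agent.Nodes.Comb Cfsg.Agent.Nodes.Reps Cfsg.Agent.Nodes.BNOf Cfsg.Agent.FixBN
  Cfsg.Agent.Nodes.RGDLib Cfsg.Agent.Nodes.RGDChev Cfsg.Agent.LieRecognition.BNCox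
  Cfsg.Agent.TitsThree Cfsg.Agent.Omega.ML.Ex.Typ

section Odd

open QuadraticMap
open Cfsg.Agent.LieClassical Cfsg.Agent.LieClassical.OrthCore Cfsg.Agent.LieClassical.OrthTrans
open Cfsg.Agent.LieClassical.OrthSimple Cfsg.Agent.LieClassical.OrthFinite
open Cfsg.Agent.LieClassical.OrthForms
open Cfsg.Agent.TitsThree.KSideO Cfsg.Agent.TitsThree.StdData
open Cfsg.Agent.Nodes Cfsg.Agent.Nodes.WittAll Cfsg.Agent.Nodes.WittU Cfsg.Agent.Nodes.WittInst
  Cfsg.Agent.TitsThree.Siegel Cfsg.Agent.TitsThree.SiegelGen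
  Cfsg.Agent.TitsThree.WittFrame Cfsg.Agent.TitsThree.WBridge Cfsg.Agent.TitsThree.WittWeyl
  Cfsg.Agent.TitsThree.FrameCN

/-- `PΩ_{2m+1}(F)`, odd characteristic, is of type `B_m`. -/
theorem typ_PO_odd {F : Type*} [Field F] {m : ℕ} [Finite F] (h2 : (2 : F) ≠ 0) (hm : 2 ≤ m) {p : ℕ} [Fact p.Prime]
    [CharP F p] : HasRGDT p (CoxeterMatrix.B m) (Cfsg.POmega F (Cfsg.quadFormOdd m F)) := by
  rw [← coe_oddForm]
  have hG : Good (oddForm m F) := by
    apply good_of_finite (nondeg_oddForm m F h2)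
    rw [Module.finrank_fintype_fun_eq_card, Fintype.card_sum, Fintype.card_sum, Fintype.card_fin,
      Fintype.card_unit]
    omega
  have hp : ((embOdd m F).ngt ⟨1, -1 ^ 2, rfl⟩).c ≠ 0 := by
    change (1 : F)⁻¹ * (-1 ^ 2) ≠ 0
    simp
  exact typ_C (model (wodd m F) hG ⟨_, hp⟩) (AmbT.of_amb (amb_O_of_two _ h2) p) hp (by omega)

end Odd

section

variable {G : Type*} [Group G] [Finite G] [IsSimpleGroup G] {p : ℕ}

theorem bad_of_A (hp : p.Prime) {n : ℕ} (hn : 3 ≤ n) (h : HasRGDT p (cA n) G) : Bad G := by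
  refine bad_of_rgdt hp h (i := ⟨0, by omega⟩) (j := ⟨1, by omega⟩) (k := ⟨2, by omega⟩) ?_ ?_ ?_ ?_
  · intro h; have := congrArg Fin.val h; simp at this
  · intro h; have := congrArg Fin.val h; simp at this
  · intro h; have := congrArg Fin.val h; simp at this
  · change LieRecognition.CoxClass.mA 0 1 ≠ 2
    unfold LieRecognition.CoxClass.mA
    norm_num

theorem bad_of_B (hp : p.Prime) {n : ℕ} (hn : 3 ≤ n) (h : HasRGDT p (CoxeterMatrix.B n) G) : Bad G := by
  refine bad_of_rgdt hp h (i := ⟨0, by omega⟩) (j := ⟨1, by omega⟩) (k := ⟨2, by omega⟩) ?_ ?_ ?_ ?_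
  · intro h; have := congrArg Fin.val h; simp at this
  · intro h; have := congrArg Fin.val h; simp at this
  · intro h; have := congrArg Fin.val h; simp at this
  · intro h2
    unfold CoxeterMatrix.B at h2
    simp only [Matrix.of_apply] at h2
    split_ifs at h2 <;> simp_all [Fin.ext_iff]

theorem bad_of_D (hp : p.Prime) {n : ℕ} (hn : 1 ≤ n) (h : HasRGDT p (Nodes.TypeD.M n) G) : Bad G := by
  rcases Nat.eq_or_lt_of_le hn with rfl | hn
  · refine bad_of_rgdt hp h (i := 0) (j := 1) (k := 2) (by decide) (by decide) (by decide) ?_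
    decide
  · refine bad_of_rgdt hp h (i := ⟨0, by omega⟩) (j := ⟨1, by omega⟩) (k := ⟨2, by omega⟩) ?_ ?_ ?_ ?_
    · intro h; have := congrArg Fin.val h; simp at this
    · intro h; have := congrArg Fin.val h; simp at this
    · intro h; have := congrArg Fin.val h; simp at this
    · have hA : Nodes.TypeD.Adj (n := n) ⟨0, by omega⟩ ⟨1, by omega⟩ :=
        Or.inl ⟨by change 1 < n + 1; omega, rfl⟩
      rw [Nodes.TypeD.M_apply, if_neg (by intro h; have := congrArg Fin.val h; simp at this),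
        if_pos (Or.inl hA)]
      norm_num

theorem bad_of_F4 (hp : p.Prime) (h : HasRGDT p CoxeterMatrix.F₄ G) : Bad G :=
  bad_of_rgdt hp h (i := 0) (j := 1) (k := 2) (by decide) (by decide) (by decide) (by decide)

theorem bad_of_E6 (hp : p.Prime) (h : HasRGDT p CoxeterMatrix.E₆ G) : Bad G :=
  bad_of_rgdt hp h (i := 0) (j := 2) (k := 1) (by decide) (by decide) (by decide) (by decide)

theorem bad_of_E7 (hp : p.Prime) (h : HasRGDT p CoxeterMatrix.E₇ G) : Bad G :=
  bad_of_rgdt hp h (i := 0) (j := 2) (k := 1) (by decide) (by decide) (by decide) (by decide)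

theorem bad_of_E8 (hp : p.Prime) (h : HasRGDT p CoxeterMatrix.E₈ G) : Bad G :=
  bad_of_rgdt hp h (i := 0) (j := 2) (k := 1) (by decide) (by decide) (by decide) (by decide)

end

/-- the families of Lie type of rank at most two -/
def SmallRank (G : Type*) [Group G] : Prop :=
  (∃ (F : Type) (_ : Field F) (_ : Fintype F), 4 ≤ Fintype.card F ∧
    Nonempty (G ≃* Matrix.ProjectiveSpecialLinearGroup (Fin 2) F)) ∨
  (∃ (F : Type) (_ : Field F) (_ : Fintype F), Nonempty (G ≃* Matrix.ProjectiveSpecialLinearGroup (Fin 3) F)) ∨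
  (∃ (F : Type) (_ : Field F) (_ : Fintype F), 3 ≤ Fintype.card F ∧ Nonempty (G ≃* PSp 2 F)) ∨
  (∃ (F : Type) (_ : Field F) (_ : Fintype F) (q : ℕ), Fintype.card F = q ^ 2 ∧ q ≠ 2 ∧ Nonempty (G ≃* PSU 3 F q)) ∨
  (∃ (F : Type) (_ : Field F) (_ : Fintype F) (q : ℕ), Fintype.card F = q ^ 2 ∧ Nonempty (G ≃* PSU 4 F q)) ∨
  (∃ (F : Type) (_ : Field F) (_ : Fintype F) (q : ℕ), Fintype.card F = q ^ 2 ∧ Nonempty (G ≃* PSU 5 F q)) ∨
  Lie.IsoChevG2 G ∨ Lie.Iso3D4 G ∨ Lie.IsoSuzuki G ∨ Lie.IsoRee G ∨ Lie.Iso2F4 G ∨ Lie.IsoTits G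

theorem exists_char (F : Type) [Field F] [Finite F] : ∃ r : ℕ, r.Prime ∧ CharP F r := by
  obtain ⟨r, hr⟩ := CharP.exists F
  exact ⟨r, CharP.char_is_prime F r, hr⟩

/-- **A known simple group is alternating, sporadic, of Lie type of rank at most two, or `Bad`.** -/
theorem cases_of_known {G : Type*} [Group G] [Finite G] [IsSimpleGroup G] (hG : IsKnownSimple' G)
    (hab : ¬ IsPrimeCyclic G) : Bad G ∨ IsAlternating G ∨ SmallRank G ∨ IsSporadicGroup G := by
  rcases hG with h | h | h | h | h | h | h | h | h | h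
  · exact absurd h hab
  · exact Or.inr (Or.inl h)
  · -- PSL
    obtain ⟨F, i1, i2, n, hn, h23, ⟨e⟩⟩ := h
    obtain ⟨r, hr, hc⟩ := exists_char F
    have : Fact r.Prime := ⟨hr⟩
    rcases Nat.lt_or_ge n 4 with h4 | h4
    · refine Or.inr (Or.inr (Or.inl ?_))
      interval_cases n
      · refine Or.inl ⟨F, i1, i2, ?_, ⟨e⟩⟩
        exact h23 rfl
      · exact Or.inr (Or.inl ⟨F, i1, i2, ⟨e⟩⟩)
    · obtain ⟨n, rfl⟩ : ∃ k, n = k + 1 := ⟨n - 1, by omega⟩
      exact Or.inl (bad_of_A hr (by omega) ((typ_PSL n).of_equiv e.symm))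
  · -- PSp
    obtain ⟨F, i1, i2, m, hm, h2, ⟨e⟩⟩ := h
    obtain ⟨r, hr, hc⟩ := exists_char F
    have : Fact r.Prime := ⟨hr⟩
    rcases Nat.eq_or_lt_of_le hm with rfl | h3
    · exact Or.inr (Or.inr (Or.inl (Or.inr (Or.inr (Or.inl ⟨F, i1, i2, h2 rfl, ⟨e⟩⟩)))))
    · exact Or.inl (bad_of_B hr (by omega) ((typ_PSp (by omega)).of_equiv e.symm))
  · -- PSU
    obtain ⟨F, i1, i2, n, q, hF, hn, hq, ⟨e⟩⟩ := h
    obtain ⟨r, hr, hc⟩ := exists_char F
    have : Fact r.Prime := ⟨hr⟩
    rcases Nat.lt_or_ge n 6 with h6 | h6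
    · refine Or.inr (Or.inr (Or.inl ?_))
      interval_cases n
      · exact Or.inr (Or.inr (Or.inr (Or.inl ⟨F, i1, i2, q, hF, fun h => hq ⟨rfl, h⟩, ⟨e⟩⟩)))
      · exact Or.inr (Or.inr (Or.inr (Or.inr (Or.inl ⟨F, i1, i2, q, hF, ⟨e⟩⟩))))
      · exact Or.inr (Or.inr (Or.inr (Or.inr (Or.inr (Or.inl ⟨F, i1, i2, q, hF, ⟨e⟩⟩)))))
    · obtain ⟨m, hm, h⟩ := typ_PSU (p := r) hF hn
      exact Or.inl (bad_of_B hr (by omega) (h.of_equiv e.symm))
  · -- odd orthogonal
    obtain ⟨F, i1, i2, m, hm, hodd, ⟨e⟩⟩ := h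
    obtain ⟨r, hr, hc⟩ := exists_char F
    have : Fact r.Prime := ⟨hr⟩
    have h2 : (2 : F) ≠ 0 := by
      intro h2
      have h3 : CharP F 2 := CharTwo.of_one_ne_zero_of_two_eq_zero one_ne_zero h2
      obtain ⟨k, -, hk⟩ := FiniteField.card F 2
      rw [hk] at hodd
      exact absurd hodd (by
        rw [Nat.not_odd_iff_even]
        exact (even_two).pow_of_ne_zero k.ne_zero)
    exact Or.inl (bad_of_B hr hm ((typ_PO_odd h2 (by omega)).of_equiv e.symm))
  · obtain ⟨F, i1, i2, m, hm, ⟨e⟩⟩ := h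
    obtain ⟨r, hr, hc⟩ := exists_char F
    have : Fact r.Prime := ⟨hr⟩
    obtain ⟨n, rfl⟩ : ∃ n, m = n + 3 := ⟨m - 3, by omega⟩
    exact Or.inl (bad_of_D hr (by omega) ((typ_PO_plus n).of_equiv e.symm))
  · obtain ⟨F, i1, i2, m, a, b, hm, hab, ⟨e⟩⟩ := h
    obtain ⟨r, hr, hc⟩ := exists_char F
    have : Fact r.Prime := ⟨hr⟩
    exact Or.inl (bad_of_B hr (by omega) ((typ_PO_minus hab (by omega)).of_equiv e.symm))
  · -- exceptional
    have key : ∀ {D : Lie.ChevalleyDatum} {l : ℕ} {M : CoxeterMatrix (Fin l)}, IsType D l M →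
        (∀ r : ℕ, r.Prime → HasRGDT r M G → Bad G) → D.IsGroupOver G → Bad G := by
      intro D l M hp hb h
      obtain ⟨F, i1, i2, ⟨e⟩⟩ := h
      obtain ⟨r, hr, hc⟩ := exists_char F
      exact hb r hr ((typ_group hp F r).of_equiv e.symm)
    rcases h with h | h | h | h | h | h | h | h | h | h | h
    · exact Or.inr (Or.inr (Or.inl (Or.inr (Or.inr (Or.inr (Or.inr (Or.inr (Or.inr (Or.inl h)))))))))
    · exact Or.inl (key (by simp [IsType, typeList]) (fun r hr hG => bad_of_F4 hr hG) h)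
    · exact Or.inl (key (by simp [IsType, typeList]) (fun r hr hG => bad_of_E6 hr hG) h)
    · exact Or.inl (key (by simp [IsType, typeList]) (fun r hr hG => bad_of_E7 hr hG) h)
    · exact Or.inl (key (by simp [IsType, typeList]) (fun r hr hG => bad_of_E8 hr hG) h)
    · obtain ⟨K, i1, i2, q, hq, hK, ⟨e⟩⟩ := h
      obtain ⟨r, hr, hc⟩ := exists_char K
      exact Or.inl (bad_of_F4 hr ((typ_twE6 hq hK r).of_equiv e.symm))
    · exact Or.inr (Or.inr (Or.inl (Or.inr (Or.inr (Or.inr (Or.inr (Or.inr (Or.inr (Or.inr (Or.inl h))))))))))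
    · exact Or.inr (Or.inr (Or.inl (Or.inr (Or.inr (Or.inr (Or.inr (Or.inr (Or.inr (Or.inr (Or.inr
        (Or.inl h)))))))))))
    · exact Or.inr (Or.inr (Or.inl (Or.inr (Or.inr (Or.inr (Or.inr (Or.inr (Or.inr (Or.inr (Or.inr
        (Or.inr (Or.inl h))))))))))))
    · exact Or.inr (Or.inr (Or.inl (Or.inr (Or.inr (Or.inr (Or.inr (Or.inr (Or.inr (Or.inr (Or.inr
        (Or.inr (Or.inr (Or.inl h)))))))))))))
    · exact Or.inr (Or.inr (Or.inl (Or.inr (Or.inr (Or.inr (Or.inr (Or.inr (Or.inr (Or.inr (Or.inr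
        (Or.inr (Or.inr (Or.inr h)))))))))))))
  · exact Or.inr (Or.inr (Or.inr h))

end Cfsg.Agent.H938
end

-- part: H938/InstC
section
set_option linter.all false
open scoped Cfsg.Agent.FastGrp

-- part: H938/Frob
section
/-!
# Rank one groups: soluble only with a cyclic root group

`isCyclic_of_solvable` : `B < P`, `P` soluble, `E ≤ B` abelian meeting the conjugates `g B g⁻¹`, `g ∈ P \ B`, trivially:
`E` is cyclic.
-/

set_option autoImplicit false
set_option linter.unusedSectionVars false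

namespace Cfsg.Agent.H938

open Subgroup

variable {G : Type*} [Group G]

/-- **A soluble group `P > B` with an abelian subgroup `E ≤ B` semiregular outside the base point.** -/
theorem isCyclic_of_solvable [Finite G] {P B E : Subgroup G} (hP : Group.IsSolvable P) (hBP : B ≤ P) (hPB : ¬ P ≤ B)
    (hEB : E ≤ B) (hE : ∀ a ∈ E, ∀ b ∈ E, a * b = b * a) (hreg : ∀ g ∈ P, g ∉ B → ∀ x ∈ E, g⁻¹ * x * g ∈ B → x = 1) :
    IsCyclic E := by
  obtain ⟨M, hMP, hMB, hM1, hM2⟩ := exists_normal_of_solvable hP hPB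
  -- `R = B M`, `D = M ⊓ B`
  set R := B ⊔ M with hR
  have hRP : R ≤ P := sup_le hBP hMP
  set D := M ⊓ B with hD
  have hDR : D ≤ R := inf_le_right.trans le_sup_left
  have hMR : M ≤ R := le_sup_right
  have hER : E ≤ R := hEB.trans le_sup_left
  -- `D` is normalised by `B` and by `M`
  have hDn : ∀ g ∈ R, ∀ d ∈ D, g * d * g⁻¹ ∈ D := by
    intro g hg d hd
    obtain ⟨b, hb, m, hm, rfl⟩ := mem_sup_of_conj (fun b hb m hm => hM1 b (hBP hb) m hm) hg
    have h1 : m * d * m⁻¹ ∈ D := by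
      refine mem_inf.2 ⟨mul_mem (mul_mem hm hd.1) (inv_mem hm), ?_⟩
      have h2 : m * d * m⁻¹ = (m * d * m⁻¹ * d⁻¹) * d := by group
      rw [h2]
      exact mul_mem (hM2 m hm d hd.1) hd.2
    have h2 : b * m * d * (b * m)⁻¹ = b * (m * d * m⁻¹) * b⁻¹ := by group
    rw [h2]
    exact mem_inf.2 ⟨hM1 b (hBP hb) _ h1.1, mul_mem (mul_mem hb h1.2) (inv_mem hb)⟩
  have hDN : (D.subgroupOf R).Normal := by
    refine ⟨fun d hd g => ?_⟩
    rw [mem_subgroupOf] at hd ⊢
    exact hDn g g.2 d hd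
  let π := QuotientGroup.mk' (D.subgroupOf R)
  have hπ : ∀ x : R, π x = 1 ↔ (x : G) ∈ D := fun x => by
    rw [QuotientGroup.mk'_apply, QuotientGroup.eq_one_iff, mem_subgroupOf]
  let V := (M.subgroupOf R).map π
  let A := (E.subgroupOf R).map π
  -- the commutators of `E` and `M`
  have hfix : ∀ e ∈ E, e ≠ 1 → ∀ m ∈ M, e * m * e⁻¹ * m⁻¹ ∈ D → m ∈ D := by
    intro e he he1 m hm h
    by_contra hmD
    have hmB : m ∉ B := fun hb => hmD ⟨hm, hb⟩
    apply he1
    refine hreg m (hMP hm) hmB e he ?_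
    have h1 : m⁻¹ * e * m = (m⁻¹ * (e * m * e⁻¹ * m⁻¹) * m⁻¹⁻¹) * e := by group
    rw [h1]
    exact mul_mem (hDn m⁻¹ (inv_mem (hMR hm)) _ h).2 (hEB he)
  have hV : IsMulCommutative V := by
    refine ⟨⟨?_⟩⟩
    rintro ⟨_, x, hx, rfl⟩ ⟨_, y, hy, rfl⟩
    rw [SetLike.mem_coe, mem_subgroupOf] at hx hy
    apply Subtype.ext
    change π x * π y = π y * π x
    rw [← map_mul, ← map_mul, ← mul_inv_eq_one, ← map_inv, ← map_mul, hπ]
    have h1 : ((x * y * (y * x)⁻¹ : R) : G) = x * y * (x : G)⁻¹ * (y : G)⁻¹ := by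
      simp [mul_assoc]
    rw [h1]
    exact mem_inf.2 ⟨mul_mem (mul_mem (mul_mem hx hy) (inv_mem hx)) (inv_mem hy), hM2 _ hx _ hy⟩
  have hVne : V ≠ ⊥ := by
    intro h
    apply hMB
    intro m hm
    have h1 : π ⟨m, hMR hm⟩ ∈ V := ⟨⟨m, hMR hm⟩, by rw [SetLike.mem_coe, mem_subgroupOf]; exact hm, rfl⟩
    rw [h, mem_bot, hπ] at h1
    exact h1.2
  have hAV : A ≤ normalizer (V : Set (R ⧸ D.subgroupOf R)) := by
    rintro _ ⟨e, he, rfl⟩
    rw [SetLike.mem_coe, mem_subgroupOf] at he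
    apply mem_normalizer_fintype
    rintro _ ⟨m, hm, rfl⟩
    rw [SetLike.mem_coe, mem_subgroupOf] at hm
    refine ⟨e * m * e⁻¹, ?_, by rw [map_mul, map_mul, map_inv]⟩
    rw [SetLike.mem_coe, mem_subgroupOf]
    exact hM1 _ (hBP (hEB he)) _ hm
  have hfpf : ∀ a ∈ A, a ≠ 1 → V ⊓ centralizer {a} = ⊥ := by
    rintro _ ⟨e, he, rfl⟩ he1
    rw [SetLike.mem_coe, mem_subgroupOf] at he
    rw [eq_bot_iff]
    rintro _ ⟨⟨m, hm, rfl⟩, hc⟩
    rw [SetLike.mem_coe, mem_subgroupOf] at hm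
    have h1 : π e * π m = π m * π e := (mem_centralizer_singleton_iff.1 hc).symm
    rw [mem_bot, hπ]
    refine hfix e he ?_ m hm ?_
    · intro h
      apply he1
      rw [hπ, h]
      exact one_mem _
    · have h2 : π (e * m * e⁻¹ * m⁻¹) = 1 := by
        rw [map_mul, map_mul, map_mul, map_inv, map_inv, h1]
        group
      rw [hπ] at h2
      exact h2
  have hAc : IsMulCommutative A := by
    refine ⟨⟨?_⟩⟩
    rintro ⟨_, x, hx, rfl⟩ ⟨_, y, hy, rfl⟩
    rw [SetLike.mem_coe, mem_subgroupOf] at hx hy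
    apply Subtype.ext
    change π x * π y = π y * π x
    rw [← map_mul, ← map_mul]
    congr 1
    exact Subtype.ext (hE _ hx _ hy)
  have hcyc : IsCyclic A := Cfsg.Agent.S0041.result A V hVne hAV hfpf (Or.inl hAc)
  -- `E ≃ A`
  let f : E →* A := ((π.comp (inclusion hER)).codRestrict A fun e =>
    ⟨inclusion hER e, by rw [SetLike.mem_coe, mem_subgroupOf]; exact e.2, rfl⟩)
  have hf : Function.Injective f := by
    rw [injective_iff_map_eq_one]
    intro e he
    have h1 : π (inclusion hER e) = 1 := congrArg Subtype.val he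
    rw [hπ] at h1
    by_contra hne
    -- `e ∈ M ⊓ B`
    obtain ⟨m, hm, hmB⟩ := SetLike.not_le_iff_exists.1 hMB
    apply hmB
    have h2 := hfix e e.2 (fun h => hne (Subtype.ext h)) m hm ?_
    · exact h2.2
    · have h3 : (e : G) * m * (e : G)⁻¹ * m⁻¹ = (e : G) * (m * (e : G)⁻¹ * m⁻¹) := by group
      rw [h3]
      exact mul_mem h1 (hDn m (hMR hm) _ (inv_mem h1))
  exact isCyclic_of_injective f hf

end Cfsg.Agent.H938
end

-- part: H938/Rgd2
section
/-!
# Groups with a root group datum of rank at least two and a non-cyclic abelian subgroup in a root group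

* `not_isSolvable_LJ_one` : the Levi subgroup of rank one is insoluble if `X (α_i)` has a non-cyclic abelian subgroup;
* `bad_of_rank_two`.
-/

set_option autoImplicit false
set_option linter.unusedSectionVars false

namespace Cfsg.Agent.H938

open CoxeterSystem Cfsg.Agent.ChevalleyStructure.CoxeterGeom Cfsg.Agent.Tits.Roots Cfsg.Agent.Tits.Core
  Cfsg.Agent.Tits.Exchange Cfsg.Agent.Nodes.Reps Cfsg.Agent.Nodes.BNOf Cfsg.Agent.Nodes.StabComb
  Cfsg.Agent.Nodes.Bruhat Cfsg.Agent.Nodes.OppDec Cfsg.Agent.Nodes.LeviDec Cfsg.Agent.Omega.ML.Ex.Typ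
  Cfsg.Agent.FixBN

section

variable {I W Y : Type*} [Fintype I] [DecidableEq I] [Group W] [Group Y] {M : CoxeterMatrix I}
  {cs : CoxeterSystem M W} {A : I → I → ℤ} {h : IsCartan M A} {p : ℕ} {T : Subgroup Y} {n : I → Y}
  {X : (I → ℤ) → Subgroup Y}

theorem mem_WJ_single {i : I} {w : W} (hw : w ∈ WJ cs {i}) : w = 1 ∨ w = cs.simple i := by
  unfold WJ at hw
  rw [Set.image_singleton] at hw
  induction hw using Subgroup.closure_induction with
  | mem x hx => exact Or.inr hx
  | one => exact Or.inl rfl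
  | mul x y _ _ hx hy =>
    rcases hx with rfl | rfl <;> rcases hy with rfl | rfl
    · exact Or.inl (mul_one _)
    · exact Or.inr (one_mul _)
    · exact Or.inr (mul_one _)
    · exact Or.inl (cs.simple_mul_simple_self i)
  | inv x _ hx =>
    rcases hx with rfl | rfl
    · exact Or.inl inv_one
    · exact Or.inr (cs.inv_simple i)

/-- a root element of the panel `i` is not conjugated into `B` by elements outside `B` -/
theorem eq_one_of_conj_mem [Finite W] (R : RGD cs h p T n X) {i : I} {g x : Y} (hg : g ∈ PJ cs h T X {i})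
    (hgB : g ∉ RGD.B cs h T X) (hx : x ∈ X (sr i)) (hc : g⁻¹ * x * g ∈ RGD.B cs h T X) : x = 1 := by
  obtain ⟨w, hw, b₁, hb₁, k, hk, b₂, hb₂, rfl⟩ := (mem_PJ_iff_cell R).1 hg
  rcases mem_WJ_single hw with rfl | rfl
  · exact absurd (mul_mem (mul_mem hb₁ (RGD.T_le_B hk.mem_of_one)) hb₂) hgB
  have h1 : k⁻¹ * (b₁⁻¹ * x * b₁) * k ∈ RGD.B cs h T X := by
    have h2 := mul_mem (mul_mem hb₂ hc) (inv_mem hb₂)
    have h3 : b₂ * ((b₁ * k * b₂)⁻¹ * x * (b₁ * k * b₂)) * b₂⁻¹ = k⁻¹ * (b₁⁻¹ * x * b₁) * k := by group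
    rwa [h3] at h2
  -- `b₁ = v u t`
  obtain ⟨v, hv, u, hu, t, ht, rfl⟩ := R.mem_B' i hb₁
  set V := RGD.Sup X (RGD.PosNe cs h i) with hV
  have hXN := R.X_le_normalizer_V i
  have hTN : T ≤ Subgroup.normalizer (V : Set Y) := R.T_le_normalizer fun _ hx => hx.1
  have hkN : k ∈ Subgroup.normalizer (V : Set Y) := by
    have h2 := (rp_simple cs R.nsys i).unique hk
    have h3 : k = n i * ((n i)⁻¹ * k) := by group
    rw [h3]
    exact mul_mem (mem_normalizer_iff_cj.2 (R.cj_n_V i)) (hTN h2)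
  have hconj : ∀ {g : Y}, g ∈ Subgroup.normalizer (V : Set Y) → ∀ {z : Y}, z ∈ V → g⁻¹ * z * g ∈ V := by
    intro g hg z hz
    have h2 := (Subgroup.mem_normalizer_iff.1 (inv_mem hg) z).1 hz
    rwa [inv_inv] at h2
  have hVU : V ≤ RGD.Sup X (RGD.Pos cs h) :=
    RGD.Sup_mono (S := RGD.PosNe cs h i) (S' := RGD.Pos cs h) fun z hz => ⟨hz.1, hz.2.1⟩
  have hVB : V ≤ RGD.B cs h T X := hVU.trans RGD.U_le_B
  -- the parts
  have hv1 : x⁻¹ * v⁻¹ * x * v ∈ V := mul_mem (hconj (hXN hx) (inv_mem hv)) hv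
  have e1 : v⁻¹ * x * v = x * (x⁻¹ * v⁻¹ * x * v) := by group
  set v1 := x⁻¹ * v⁻¹ * x * v with hv1d
  set x1 := u⁻¹ * x * u with hx1d
  have hx1 : x1 ∈ X (sr i) := mul_mem (mul_mem (inv_mem hu) hx) hu
  have hx2 : t⁻¹ * x1 * t ∈ X (sr i) := by
    have h2 := R.tor (sr i) (isRoot_sr cs h i) t ht
    rw [← h2] at hx1
    exact mem_cj.1 hx1
  have hv2 : t⁻¹ * (u⁻¹ * v1 * u) * t ∈ V := hconj (hTN ht) (hconj (hXN hu) hv1)
  have e2 : (v * u * t)⁻¹ * x * (v * u * t) = (t⁻¹ * x1 * t) * (t⁻¹ * (u⁻¹ * v1 * u) * t) := by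
    have h2 : (v * u * t)⁻¹ * x * (v * u * t) = t⁻¹ * (u⁻¹ * (v⁻¹ * x * v) * u) * t := by group
    rw [h2, e1, hx1d]
    group
  rw [e2] at h1
  have h2 : k⁻¹ * (t⁻¹ * x1 * t) * k ∈ RGD.B cs h T X := by
    have h3 : k⁻¹ * (t⁻¹ * x1 * t) * k =
        (k⁻¹ * (t⁻¹ * x1 * t * (t⁻¹ * (u⁻¹ * v1 * u) * t)) * k) * (k⁻¹ * (t⁻¹ * (u⁻¹ * v1 * u) * t) * k)⁻¹ := by
      group
    rw [h3]
    exact mul_mem h1 (inv_mem (hVB (hconj hkN hv2)))
  have h3 : k⁻¹ * (t⁻¹ * x1 * t) * k ∈ X (-sr i) := by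
    have h4 := R.conj_mem' hk (isRoot_sr cs h i) hx2
    rwa [cs.inv_simple, rep_simple_sr] at h4
  have h4 := eq_one_of_mem_UN_of_mem_B R (X_le_UN (isRoot_sr cs h i).neg (neg_nonpos.2 (sr_nonneg i)) h3) h2
  have h5 : x = (u * t) * k * (k⁻¹ * (t⁻¹ * x1 * t) * k) * k⁻¹ * (u * t)⁻¹ := by
    rw [hx1d]; group
  rw [h5, h4]
  group

/-- **The rank one Levi subgroup is insoluble if the root group has a non-cyclic abelian subgroup.** -/
theorem not_isSolvable_LJ_one [Finite W] [Finite Y] (hp : p.Prime) (R : RGD cs h p T n X) {i : I} {E : Subgroup Y}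
    (hE : E ≤ X (sr i)) (hEc : ∀ a ∈ E, ∀ b ∈ E, a * b = b * a) (hcyc : ¬ IsCyclic E) :
    ¬ Group.IsSolvable (LJ cs h T X {i}) := by
  intro hs
  have : Fact p.Prime := ⟨hp⟩
  have hV : Group.IsSolvable (VJ cs h X {i}) := by
    have h1 : IsPGroup p (VJ cs h X {i}) := R.isPGroup_Upos.to_le (VJ_le_U _)
    have : Group.IsNilpotent (VJ cs h X {i}) := h1.isNilpotent
    infer_instance
  have hP := isSolvable_PJ R hV hs
  refine hcyc (isCyclic_of_solvable hP B_le_PJ ?_ (hE.trans (RGD.X_le_B (isRoot_sr cs h i) (sr_nonneg i))) hEc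
    fun g hg hgB x hx hc => eq_one_of_conj_mem R hg hgB (hE hx) hc)
  intro hle
  have h1 : n i ∈ RGD.B cs h T X := hle (LJ_le_PJ (n_mem_LJ R rfl))
  have h2 := R.eq_one_of_mem_B (rp_simple cs R.nsys i) h1
  have h6 := cs.length_simple i
  rw [h2, cs.length_one] at h6
  exact absurd h6 (by decide)

end

/-- `G` has a root group datum of type `M` and characteristic `p`, and a non-cyclic abelian subgroup in a simple
root group -/
def HasX (p : ℕ) {l : ℕ} (M : CoxeterMatrix (Fin l)) (G : Type*) [Group G] : Prop :=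
  ∃ (A : Fin l → Fin l → ℤ) (h : IsCartan M A) (T : Subgroup G) (n : Fin l → G) (X : (Fin l → ℤ) → Subgroup G),
    Finite M.Group ∧ RGD M.toCoxeterSystem h p T n X ∧ Nodes.RGDLib.G1 M.toCoxeterSystem h X = ⊤ ∧
      ∃ (i : Fin l) (E : Subgroup G), E ≤ X (sr i) ∧ (∀ a ∈ E, ∀ b ∈ E, a * b = b * a) ∧ ¬ IsCyclic E

/-- **Root group data of rank at least two, non-cyclic root groups.** -/
theorem bad_of_hasX {p l : ℕ} {M : CoxeterMatrix (Fin l)} {G : Type*} [Group G] [Finite G] [IsSimpleGroup G]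
    (hp : p.Prime) (hl : 2 ≤ l) (hG : HasX p M G) : Bad G := by
  obtain ⟨A, h, T, n, X, hW, R, hX, i, E, hE, hEc, hcyc⟩ := hG
  have : Fact p.Prime := ⟨hp⟩
  have hV : Group.IsSolvable (VJ M.toCoxeterSystem h X {i}) := by
    have h1 : IsPGroup p (VJ M.toCoxeterSystem h X {i}) := R.isPGroup_Upos.to_le (VJ_le_U _)
    have : Group.IsNilpotent (VJ M.toCoxeterSystem h X {i}) := h1.isNilpotent
    infer_instance
  obtain ⟨k, hk⟩ : ∃ k : Fin l, k ≠ i := by
    have : Nontrivial (Fin l) := Fin.nontrivial_iff_two_le.2 hl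
    exact exists_ne i
  refine bad_of_normalizes (not_isSolvable_LJ_one hp R hE hEc hcyc) hV (LJ_le_normalizer_VJ R _) ?_
  intro hle
  have h1 : VJ M.toCoxeterSystem h X {i} ≤ ⊥ := by
    rw [← LJ_inf_VJ R {i}]
    exact le_inf hle le_rfl
  have h2 : X (sr k) ≤ VJ M.toCoxeterSystem h X {i} :=
    RGD.le_Sup ⟨isRoot_sr M.toCoxeterSystem h k, sr_nonneg k, k, hk, by rw [sr_self]; exact one_pos⟩
  exact X_ne_bot R (isRoot_sr M.toCoxeterSystem h k) (le_bot_iff.1 (h2.trans h1))

theorem HasX.of_equiv {p l : ℕ} {M : CoxeterMatrix (Fin l)} {G H : Type*} [Group G] [Group H] (e : G ≃* H)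
    (hG : HasX p M G) : HasX p M H := by
  obtain ⟨A, h, T, n, X, hW, R, hX, i, E, hE, hEc, hcyc⟩ := hG
  refine ⟨A, h, T.map e.toMonoidHom, fun i => e (n i), fun x => (X x).map e.toMonoidHom, hW,
    Nodes.RGDLib.rgd_map_of_injective R e.toMonoidHom e.injective, ?_, i, E.map e.toMonoidHom,
    Subgroup.map_mono hE, ?_, ?_⟩
  · have h1 : (Nodes.RGDLib.G1 M.toCoxeterSystem h X).map e.toMonoidHom =
        Nodes.RGDLib.G1 M.toCoxeterSystem h (fun x => (X x).map e.toMonoidHom) := by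
      unfold Nodes.RGDLib.G1 RGD.Sup
      rw [Subgroup.map_iSup]
    rw [← h1, hX, Subgroup.map_top_of_surjective _ e.surjective]
  · rintro _ ⟨a, ha, rfl⟩ _ ⟨b, hb, rfl⟩
    rw [← map_mul, ← map_mul, hEc a ha b hb]
  · intro hc
    apply hcyc
    exact isCyclic_of_injective (E.equivMapOfInjective e.toMonoidHom e.injective).toMonoidHom
      (E.equivMapOfInjective e.toMonoidHom e.injective).injective

/-- the additive group of a field of non-prime order is not cyclic -/
theorem not_isCyclic_range {F G : Type*} [Field F] [Finite F] [Group G] (f : Multiplicative F →* G)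
    (hf : Function.Injective f) (hF : ¬ (Nat.card F).Prime) : ¬ IsCyclic f.range := by
  intro hc
  have h1 : IsCyclic (Multiplicative F) := by
    exact isCyclic_of_injective (MonoidHom.ofInjective hf).toMonoidHom (MonoidHom.ofInjective hf).injective
  obtain ⟨p, hp⟩ := CharP.exists F
  have hpp : p.Prime := CharP.char_is_prime F p
  obtain ⟨g, hg⟩ := h1.exists_generator
  have h2 : orderOf g = Nat.card (Multiplicative F) := orderOf_eq_card_of_forall_mem_zpowers hg
  have h3 : g ^ p = 1 := by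
    change Multiplicative.ofAdd (p • g.toAdd) = Multiplicative.ofAdd 0
    rw [nsmul_eq_mul, CharP.cast_eq_zero, zero_mul]
  have h4 := orderOf_dvd_of_pow_eq_one h3
  rw [h2, Nat.card_congr Multiplicative.toAdd] at h4
  rcases (Nat.dvd_prime hpp).1 h4 with h5 | h5
  · have := Finite.one_lt_card (α := F)
    omega
  · exact hF (h5 ▸ hpp)

end Cfsg.Agent.H938
end

-- part: H938/InstC
section
/-!
# Instances of `HasX`: Witt frames, the groups `PSp` and `PSU`
-/

set_option autoImplicit false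
set_option linter.unusedSectionVars false

namespace Cfsg.Agent.H938

open Cfsg
open CoxeterSystem Cfsg.Agent.ChevalleyStructure.CoxeterGeom Cfsg.Agent.Tits.Roots Cfsg.Agent.Tits.Core
  Cfsg.Agent.Nodes.Comb Cfsg.Agent.Nodes.Reps Cfsg.Agent.Nodes.BNOf Cfsg.Agent.FixBN
  Cfsg.Agent.Nodes.RGDLib Cfsg.Agent.Nodes.TypeC Cfsg.Agent.Omega.ML.Ex.Typ
open Cfsg.Agent.Nodes Cfsg.Agent.Nodes.WittAll Cfsg.Agent.Nodes.WittU Cfsg.Agent.Nodes.WittInst
  Cfsg.Agent.Nodes.WittRoot Cfsg.Agent.Nodes.WittRGD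
  Cfsg.Agent.TitsThree Cfsg.Agent.TitsThree.Siegel Cfsg.Agent.TitsThree.SiegelGen
  Cfsg.Agent.TitsThree.WittFrame Cfsg.Agent.TitsThree.WBridge Cfsg.Agent.TitsThree.WittWeyl
  Cfsg.Agent.TitsThree.FrameCN Cfsg.Agent.TitsThree.LineBorel

variable {F : Type*} [Field F] {V : Type*} [AddCommGroup V] [Module F V] {H : HForm F V} {n : ℕ}
  {Fr : Frame H (Fin n)} {K : Type*} [Group K] (M : Model Fr K)

/-- the root homomorphism of a model -/
noncomputable def mx (x y : Fin n × Bool) : Multiplicative F →* K where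
  toFun a := M.X x y a.toAdd
  map_one' := by
    change M.φ ⟨Fr.X x y 0, M.hX _ _ _⟩ = 1
    rw [← map_one M.φ]
    exact congrArg _ (Subtype.ext (Fr.X_zero x y))
  map_mul' a b := by
    change M.φ ⟨Fr.X x y (a.toAdd + b.toAdd), M.hX _ _ _⟩ = M.φ _ * M.φ _
    rw [← map_mul]
    exact congrArg _ (Subtype.ext (Fr.X_add x y _ _))

theorem mx_injective {x y : Fin n × Bool} (h : x.1 ≠ y.1) : Function.Injective (mx M x y) := by
  rw [injective_iff_map_eq_one]
  intro t ht
  obtain ⟨a, ha⟩ := M.ker (Fr.b (neg y)) _ ht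
  have h1 : Fr.b (neg y) + t.toAdd • Fr.b x = a • Fr.b (neg y) := by
    rw [← TitsThree.WittWeyl.X_apply_neg Fr h]; exact ha
  -- pairing with `b (neg x)`
  have h2 := congrArg (fun v => H.h v (Fr.b (neg x))) h1
  have e1 : H.h (Fr.b (neg y)) (Fr.b (neg x)) = 0 := Fr.hb_of_ne (x := neg y) (y := neg x) (fun h' => h h'.symm)
  simp only [H.add_left, H.smul_left, e1, Fr.hb_self_neg, mul_zero, zero_add] at h2
  rcases mul_eq_zero.1 h2 with h3 | h3
  · exact h3
  · exact absurd h3 (Fr.η_ne (neg x))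

theorem hasX_C {p : ℕ} (hA : AmbT Fr p M.I) [Finite V] [Fact p.Prime] [CharP F p] {p0 : Fr.Adm} (hp0 : p0.c ≠ 0)
    (hn : 1 < n) [Finite F] (hF : ¬ (Nat.card F).Prime) : HasX p (CoxeterMatrix.B n) K :=
  ⟨Nodes.TypeC.A n, Nodes.TypeC.isCartan n, _, _, _, Nodes.TypeC.finite_W (CoxeterMatrix.B n).toCoxeterSystem,
    rgdC_model M hA hp0 _, WittModel.G1_eq_top _ (by omega) _, ⟨0, by omega⟩,
    (mx M (⟨0, by omega⟩, true) (⟨1, by omega⟩, false)).range, by
      rintro _ ⟨a, rfl⟩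
      refine ⟨⟨Fr.X (⟨0, by omega⟩, true) (⟨1, by omega⟩, false) a.toAdd, M.hX _ _ _⟩, ?_, rfl⟩
      change Fr.X (⟨0, by omega⟩, true) (⟨1, by omega⟩, false) a.toAdd ∈ rg Fr (sr ⟨0, by omega⟩)
      have hnx : nx (⟨0, by omega⟩ : Fin n) = (⟨1, by omega⟩, false) := by
        unfold nx; rw [dif_pos (by simpa using hn)]
      rw [rg_sr, hnx, PG_ne]
      · exact ⟨_, rfl⟩
      · simp [Fin.ext_iff], by
      rintro _ ⟨a, rfl⟩ _ ⟨b, rfl⟩
      rw [← map_mul, ← map_mul, mul_comm], not_isCyclic_range _ (mx_injective M (by simp [Fin.ext_iff])) hF⟩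

theorem hasX_PSU {F : Type*} [Field F] [Fintype F] {q N : ℕ} (hF : Fintype.card F = q ^ 2) (hN : 4 ≤ N) {p : ℕ}
    [Fact p.Prime] [CharP F p] : ∃ m, (N = 2 * m ∨ N = 2 * m + 1) ∧ HasX p (CoxeterMatrix.B m) (PSU N F q) := by
  obtain ⟨m, hm⟩ : ∃ m, N = 2 * m ∨ N = 2 * m + 1 := ⟨N / 2, by omega⟩
  obtain ⟨W, -⟩ := exists_wframe hF hm
  obtain ⟨p0, hp0, -⟩ := exists_adm hF W
  refine ⟨m, hm, hasX_C (KInstU.model hF (by omega) W) (AmbT.of_amb (amb_U hF W) p) hp0 (by omega) ?_⟩
  rw [Nat.card_eq_fintype_card, hF]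
  exact Nat.Prime.not_prime_pow le_rfl

theorem hasX_PSp {F : Type*} [Field F] [Finite F] {m : ℕ} (hm : 2 ≤ m) {p : ℕ}
    [Fact p.Prime] [CharP F p] (hF : ¬ (Nat.card F).Prime) : HasX p (CoxeterMatrix.B m) (PSp m F) :=
  hasX_C (KInstSp.model m F) (AmbT.of_amb amb_Sp p) (p0 := SpIdent.adm 1) one_ne_zero (by omega) hF

end Cfsg.Agent.H938
end
end
end
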